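import Cfsg.Agent.Lib.KnownA.OneSevenFiveData.II3.Data

set_option autoImplicit false
set_option maxRecDepth 100000

set_option Elab.async false

namespace CfsgLib.KnownA.OneSevenFive.II3

open CfsgLib.InvChar.Coset

theorem chk_facts0 : cert.chkBlocks 5 0 = true := by decide +kernel

end CfsgLib.KnownA.OneSevenFive.II3
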